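import Cfsg.Agent.H131.B57.CompDec
import Cfsg.Agent.H594.B57.HomDecNormal

/-!
# S5717, D5 (`comp_dec`), helper131
-/

set_option autoImplicit false

open Subgroup

namespace Cfsg.Agent.H131.B57

open Cfsg.Agent.H830.B57

variable {p : ℕ} [Fact p.Prime] {V : Type} [AddCommGroup V] [Module (ZMod p) V]

/-- D5: `V` restricted to a component: many copies -/
theorem comp_dec [Finite V] (X : Subgroup (V ≃ₗ[ZMod p] V)) (hX : PrimLin X)
    (A C R : Subgroup (V ≃ₗ[ZMod p] V)) (t : ℕ) (E : Fin t → Subgroup (V ≃ₗ[ZMod p] V))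
    (hS : Str X A C R t E) (i : Fin t) :
    ∃ (U : Type) (_ : AddCommGroup U) (_ : Module (ZMod p) U) (M : ℕ)
      (ρ : E i →* (U ≃ₗ[ZMod p] U)) (φ : V ≃ₗ[ZMod p] (Fin M → U)), HomDec (E i) M ρ φ ∧
      2 ^ (t - 1) ≤ M :=
  comp_dec_of_D1 X hX (fun Y hYX hY => Cfsg.Agent.H594.B57.homDec_of_normal X hX Y hYX hY) A C R t E hS i

end Cfsg.Agent.H131.B57
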